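import Groth.Agent.ModSiteExt.Sheaf
import Groth.Agent.ModSiteFree.Basic
import Groth.Agent.KFlat.Site
import Mathlib.CategoryTheory.Adjunction.Additive
import Mathlib.CategoryTheory.Adjunction.Mates

/-!
Consequences of the projection formula: flatness of restrictions and extensions by zero, internal hom.
-/

set_option backward.isDefEq.respectTransparency false
set_option linter.style.haveILetI false
set_option autoImplicit false
set_option maxHeartbeats 1000000

universe u

open CategoryTheory Category Limits Opposite MonoidalCategory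

namespace Groth.Agent.ModSiteExt

variable {C : Type u} [SmallCategory C] {J : GrothendieckTopology C} (O : Sheaf J CommRingCat.{u}) (U : C)

/-- `O ⊗ M ≅ M` -/
noncomputable def unitTensorIso (M : ModSite.Mod O) :
    ((ModSite.tensorBi O).obj (ModSite.unit O)).obj M ≅ M :=
  (Sh O).mapIso (MonoidalCategory.leftUnitor (C := PM O.obj) ((toPM O).obj M)) ≪≫
    @asIso _ _ _ _ ((PresheafOfModules.sheafificationAdjunction.{u} (R := ModSite.ringSh O)
      (𝟙 (ModSite.ringSh O).obj)).counit.app M) inferInstance

/-- `j_!O_U ⊗ M ≅ j_!(M|U)` -/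
noncomputable def freeOnTensorIso (M : ModSite.Mod O) :
    ((ModSite.tensorBi O).obj (ModSite.freeOn O U)).obj M ≅
      (ModSite.extZero O U).obj ((ModSite.restr O U).obj M) :=
  ((projectionIso O U M).app (ModSite.unit (O.over U))).symm ≪≫
    (ModSite.extZero O U).mapIso (unitTensorIso (O.over U) ((ModSite.restr O U).obj M))

/-- sections of the internal hom -/
noncomputable def sectSheafHomEquiv (M N : ModSite.Mod O) [ModSite.HasSheafHom M] :
    ((ModSite.restr O U).obj M ⟶ (ModSite.restr O U).obj N) ≃ ModSite.sect ((ModSite.sheafHom M).obj N) U :=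
  (((ModSite.extZeroAdj O U).homEquiv _ N).symm.trans ((freeOnTensorIso O U M).homFromEquiv.symm)).trans
    (((ModSite.sheafHomAdj M).homEquiv (ModSite.freeOn O U) N).trans
      (ModSiteFree.freeOnCorep O U).homEquiv)

theorem nonempty_sectSheafHom (M N : ModSite.Mod O) [ModSite.HasSheafHom M] :
    Nonempty (ModSite.sect ((ModSite.sheafHom M).obj N) U ≃+
      ((ModSite.restr O U).obj M ⟶ (ModSite.restr O U).obj N)) := by
  haveI := preservesBinaryBiproducts_of_preservesBinaryCoproducts (ModSite.extZero O U)
  haveI := Functor.additive_of_preservesBinaryBiproducts (ModSite.extZero O U)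
  haveI : ((ModSite.tensorBi O).flip.obj M).Additive := by
    haveI : PreservesColimitsOfSize.{u, u} ((ModSite.tensorBi O).flip.obj M) :=
      ModSiteTensor.preservesColimits_tensorBi_flip_obj O M
    haveI : PreservesColimitsOfSize.{0, 0} ((ModSite.tensorBi O).flip.obj M) :=
      preservesSmallestColimits_of_preservesColimits _
    haveI := preservesBinaryBiproducts_of_preservesBinaryCoproducts ((ModSite.tensorBi O).flip.obj M)
    exact Functor.additive_of_preservesBinaryBiproducts _
  refine ⟨({ sectSheafHomEquiv O U M N with map_add' := fun a b => ?_ } : _ ≃+ _).symm⟩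
  simp only [sectSheafHomEquiv, Equiv.toFun_as_coe, Equiv.trans_apply]
  rw [← (ModSite.extZeroAdj O U).homAddEquiv_symm_apply, map_add]
  simp only [Adjunction.homAddEquiv_symm_apply, Iso.homFromEquiv_symm_apply, Preadditive.comp_add]
  have key : ∀ x y : ModSite.freeOn O U ⟶ (ModSite.sheafHom M).obj N,
      (show ModSite.sect ((ModSite.sheafHom M).obj N) U from (ModSiteFree.freeOnCorep O U).homEquiv (x + y)) =
      (show ModSite.sect ((ModSite.sheafHom M).obj N) U from (ModSiteFree.freeOnCorep O U).homEquiv x) +
      (show ModSite.sect ((ModSite.sheafHom M).obj N) U from (ModSiteFree.freeOnCorep O U).homEquiv y) := by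
    intro x y
    have hadd := map_add ((ModSite.extZeroAdj O U).homAddEquiv (SheafOfModules.unit _) ((ModSite.sheafHom M).obj N)) x y
    refine (congrArg (fun z => (ModSiteFree.overSections U _) ((((ModSite.restr O U).obj
      ((ModSite.sheafHom M).obj N)).unitHomEquiv) z)) hadd).trans ?_
    rfl
  exact (congrArg (fun z => (show ModSite.sect ((ModSite.sheafHom M).obj N) U from
      (ModSiteFree.freeOnCorep O U).homEquiv z))
    (map_add ((ModSite.sheafHomAdj M).homAddEquiv (ModSite.freeOn O U) N) _ _)).trans (key _ _)

/-- restriction commutes with the internal hom -/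
theorem nonempty_restrSheafHomIso (M : ModSite.Mod O) [ModSite.HasSheafHom M]
    [ModSite.HasSheafHom ((ModSite.restr O U).obj M)] :
    Nonempty (ModSite.sheafHom M ⋙ ModSite.restr O U ≅
      ModSite.restr O U ⋙ ModSite.sheafHom ((ModSite.restr O U).obj M)) :=
  ⟨conjugateIsoEquiv ((ModSite.extZeroAdj O U).comp (ModSite.sheafHomAdj M))
    ((ModSite.sheafHomAdj ((ModSite.restr O U).obj M)).comp (ModSite.extZeroAdj O U))
    (projectionIso O U M)⟩

/-- restriction preserves flatness -/
theorem isFlat_restr (M : ModSite.Mod O) (hM : ModSite.IsFlat M) :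
    ModSite.IsFlat ((ModSite.restr O U).obj M) := by
  refine (KFlat.flatObj_iff _ _).1 (KFlat.flatObj_of_mono
    (fun X => KFlat.exact_flip_of_rightExact (KFlat.braid _) (KFlat.preservesFiniteColimits_left _) X)
    _ fun P P' f hf => ?_)
  haveI := hf
  haveI := preservesFiniteLimits_extZero O U
  haveI := faithful_extZero O U
  haveI := hM.1
  let T' := (ModSite.tensorBi (O.over U)).flip.obj ((ModSite.restr O U).obj M)
  haveI : Mono ((ModSite.extZero O U ⋙ (ModSite.tensorBi O).flip.obj M).map f) := by
    rw [Functor.comp_map]
    haveI : Mono ((ModSite.extZero O U).map f) := (ModSite.extZero O U).map_mono f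
    exact ((ModSite.tensorBi O).flip.obj M).map_mono _
  haveI : Mono ((T' ⋙ ModSite.extZero O U).map f) := by
    have h := NatIso.naturality_2 (projectionIso O U M) f
    rw [← h]
    infer_instance
  exact (ModSite.extZero O U).mono_of_mono_map (f := T'.map f) (by assumption)

/-- naturality of the projection formula in the module on `C` -/
lemma projMap_naturality_right (P : PMOver O.obj U) {N N' : PM O.obj} (f : N ⟶ N') :
    (extZeroFun O.obj U).map (MonoidalCategory.whiskerLeft (C := PresheafOfModules.{u}
        (((Over.forget U).op ⋙ O.obj) ⋙ forget₂ CommRingCat.{u} RingCat.{u})) P ((res O.obj U).map f)) ≫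
      projMap P N' =
    projMap P N ≫ MonoidalCategory.whiskerLeft (C := PM O.obj) (extZeroObj P) f := by
  refine extZeroObj_hom_ext fun W g x => ?_
  refine ((congrArg ((projMap P N').app W) (mapAux_incl _ W g x)).trans (descHom_incl _ W g _)).trans ?_
  refine Eq.trans ?_ (congrArg ((MonoidalCategory.whiskerLeft (C := PM O.obj)
    (extZeroObj P) f).app W) (descHom_incl _ W g x)).symm
  induction x using TensorProduct.induction_on with
  | zero => simp
  | tmul p n => rfl
  | add a b ha hb => simp only [map_add, ha, hb]

lemma projectionIso_naturality_right (P : ModSite.Mod (O.over U)) {N N' : ModSite.Mod O} (f : N ⟶ N') :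
    (ModSite.extZero O U).map (((ModSite.tensorBi (O.over U)).obj P).map ((ModSite.restr O U).map f)) ≫
        (projectionIso O U N').hom.app P =
      (projectionIso O U N).hom.app P ≫
        ((ModSite.tensorBi O).obj ((ModSite.extZero O U).obj P)).map f := by
  let f₀ := (toPM O).map f
  let P₀ := (toPMOver O U).obj P
  let f' := MonoidalCategory.whiskerLeft (C := PresheafOfModules.{u}
        (((Over.forget U).op ⋙ O.obj) ⋙ forget₂ CommRingCat.{u} RingCat.{u})) P₀ ((res O.obj U).map f₀)
  have s1 := (shExtZeroIso O U).hom.naturality f'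
  have s2 : (Sh O).map ((extZeroFun O.obj U).map f') ≫ (Sh O).map (projMap P₀ ((toPM O).obj N')) =
      (Sh O).map (projMap P₀ ((toPM O).obj N)) ≫
        (Sh O).map (MonoidalCategory.whiskerLeft (C := PM O.obj) (extZeroObj P₀) f₀) := by
    rw [← Functor.map_comp, ← Functor.map_comp, projMap_naturality_right O U P₀ f₀]
  let η := ModSiteTensor.η O (extZeroObj P₀)
  have s3 : (Sh O).map (MonoidalCategory.whiskerLeft (C := PM O.obj) (extZeroObj P₀) f₀) ≫
      (Sh O).map (MonoidalCategory.whiskerRight (C := PM O.obj) η ((toPM O).obj N')) =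
      (Sh O).map (MonoidalCategory.whiskerRight (C := PM O.obj) η ((toPM O).obj N)) ≫
        ((ModSite.tensorBi O).obj ((Sh O).obj (extZeroObj P₀))).map f := by
    refine ((Sh O).map_comp _ _).symm.trans (Eq.trans ?_ ((Sh O).map_comp _ _))
    exact congrArg _ (MonoidalCategory.whisker_exchange (C := PM O.obj) η f₀)
  have s4 := ((ModSite.tensorBi O).map ((extZeroIso O U).inv.app P)).naturality f
  dsimp only [projectionIso, Iso.trans_hom, NatTrans.comp_app, Functor.isoWhiskerLeft_hom,
    Functor.whiskerLeft_app, Functor.isoWhiskerRight_hom, Functor.whiskerRight_app, Iso.symm_hom,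
    NatIso.ofComponents_hom_app, Iso.app_hom, asIso_hom]
  simp only [Category.assoc]
  refine (reassoc_of% s1) _ |>.trans ?_
  refine congrArg _ ?_
  refine (reassoc_of% s2) _ |>.trans ?_
  refine congrArg _ ?_
  refine (reassoc_of% s3) _ |>.trans ?_
  exact congrArg _ s4

/-- extension by zero preserves flatness -/
theorem isFlat_extZero (M : ModSite.Mod (O.over U)) (hM : ModSite.IsFlat M) :
    ModSite.IsFlat ((ModSite.extZero O U).obj M) := by
  refine (KFlat.flatObj_iff _ _).1 (KFlat.flatObj_of_mono
    (fun X => KFlat.exact_flip_of_rightExact (KFlat.braid _) (KFlat.preservesFiniteColimits_left _) X)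
    _ fun N N' f hf => ?_)
  haveI := hf
  haveI := preservesFiniteLimits_extZero O U
  haveI := hM.1
  let B := (ModSite.tensorBi O).obj ((ModSite.extZero O U).obj M)
  let B' := (ModSite.tensorBi (O.over U)).obj M
  haveI : PreservesFiniteLimits B' :=
    preservesFiniteLimits_of_natIso ((KFlat.braid (O.over U)).app M).symm
  haveI : Mono ((ModSite.restr O U).map f) :=
    (ModSite.restr O U).map_mono f
  haveI : Mono (B'.map ((ModSite.restr O U).map f)) := B'.map_mono _
  haveI : Mono ((ModSite.extZero O U).map (B'.map ((ModSite.restr O U).map f))) :=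
    (ModSite.extZero O U).map_mono _
  haveI : Mono (B.map f) := by
    have h : B.map f = inv ((projectionIso O U N).hom.app M) ≫
        (ModSite.extZero O U).map (B'.map ((ModSite.restr O U).map f)) ≫ (projectionIso O U N').hom.app M := by
      rw [projectionIso_naturality_right O U M f, IsIso.inv_hom_id_assoc]
    rw [h]
    infer_instance
  have hb := NatIso.naturality_1 ((KFlat.braid O).app ((ModSite.extZero O U).obj M)) f
  change Mono (((ModSite.tensorBi O).flip.obj ((ModSite.extZero O U).obj M)).map f)
  rw [← hb]
  infer_instance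

theorem exact_of_exact_map (S : ShortComplex (ModSite.Mod (O.over U)))
    [(ModSite.extZero O U).PreservesZeroMorphisms]
    (h : (S.map (ModSite.extZero O U)).Exact) : S.Exact := by
  haveI := preservesFiniteLimits_extZero O U
  haveI := faithful_extZero O U
  haveI : PreservesColimitsOfSize.{u, u} (ModSite.extZero O U) :=
    (ModSite.extZeroAdj O U).leftAdjoint_preservesColimits
  haveI : PreservesColimitsOfSize.{0, 0} (ModSite.extZero O U) :=
    preservesSmallestColimits_of_preservesColimits _
  exact (S.exact_map_iff_of_faithful (ModSite.extZero O U)).mp h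

end Groth.Agent.ModSiteExt
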