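import Groth.Prelude.Def_ModSite
import Groth.Agent.ModSiteExt.Presheaf
import Groth.Agent.ModSiteTensor.Colimit
import Mathlib.CategoryTheory.Sites.PreservesLocallyBijective
import Mathlib.Algebra.Category.ModuleCat.Presheaf.EpiMono

/-!
Extension by zero and restriction of sheaves of modules: projection formula, exactness, tensor.
-/

set_option backward.isDefEq.respectTransparency false
set_option linter.style.haveILetI false
set_option autoImplicit false
set_option maxHeartbeats 1000000

universe u

open CategoryTheory Category Limits Opposite MonoidalCategory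

namespace Groth.Agent.ModSiteExt

variable {C : Type u} [SmallCategory C] {J : GrothendieckTopology C} (O : Sheaf J CommRingCat.{u}) (U : C)

/-- sheafification, typed out of `PM O.obj` -/
noncomputable abbrev Sh : PM O.obj ⥤ ModSite.Mod O := ModSite.sheafify O

/-- sheafification on the slice, typed out of `PMOver` -/
noncomputable abbrev ShOver : PMOver O.obj U ⥤ ModSite.Mod (O.over U) := ModSite.sheafify (O.over U)

/-- the forgetful functor on the slice, typed into `PMOver` -/
noncomputable abbrev toPMOver : ModSite.Mod (O.over U) ⥤ PMOver O.obj U :=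
  SheafOfModules.forget (ModSite.ringSh (O.over U))

/-- the forgetful functor, typed into `PM` -/
noncomputable abbrev toPM : ModSite.Mod O ⥤ PM O.obj := SheafOfModules.forget (ModSite.ringSh O)

/-- the ring map of the restriction -/
noncomputable abbrev overRingHom : (ModSite.ringSh O).over U ⟶
    ((Over.forget U).sheafPushforwardContinuous RingCat.{u} (J.over U) J).obj (ModSite.ringSh O) :=
  𝟙 _

/-- the chosen presheaf pullback is the explicit extension by zero -/
noncomputable def presheafIso :
    PresheafOfModules.pullback.{u} (F := Over.forget U) (R := (ModSite.ringSh O).obj)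
      (overRingHom O U).hom ≅ extZeroFun O.obj U :=
  Adjunction.leftAdjointUniq
    (PresheafOfModules.pullbackPushforwardAdjunction.{u} (F := Over.forget U) (R := (ModSite.ringSh O).obj)
      (overRingHom O U).hom) (extZeroAdj O.obj U)

/-- `j_!` is the sheafified pointwise direct sum -/
noncomputable def extZeroIso : ModSite.extZero O U ≅ toPMOver O U ⋙ extZeroFun O.obj U ⋙ Sh O :=
  SheafOfModules.pullbackIso.{u} (overRingHom O U) ≪≫
    Functor.isoWhiskerLeft (toPMOver O U) (Functor.isoWhiskerRight (presheafIso O U) (Sh O))

/-- `j_!` commutes with sheafification -/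
noncomputable def shExtZeroIso : ShOver O U ⋙ ModSite.extZero O U ≅ extZeroFun O.obj U ⋙ Sh O :=
  SheafOfModules.sheafificationCompPullback.{u} (overRingHom O U) ≪≫
    Functor.isoWhiskerRight (presheafIso O U) (Sh O)

/-- projection formula on presheaves, sheafified -/
lemma isIso_sh_projMap (P : PMOver O.obj U) (N : PM O.obj) : IsIso ((Sh O).map (projMap P N)) := by
  haveI : ∀ W, IsIso ((projMap P N).app W) := fun W =>
    (ConcreteCategory.isIso_iff_bijective _).mpr (projMap_bijective P N W)
  haveI : IsIso ((PresheafOfModules.toPresheaf _).map (projMap P N)) :=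
    @NatIso.isIso_of_isIso_app _ _ _ _ _ _ _ fun W =>
      inferInstanceAs (IsIso ((forget₂ _ AddCommGrpCat).map ((projMap P N).app W)))
  haveI : IsIso (projMap P N) :=
    isIso_of_reflects_iso (projMap P N) (PresheafOfModules.toPresheaf _)
  infer_instance

lemma projMap_naturality {P P' : PMOver O.obj U} (t : P ⟶ P') (N : PM O.obj) :
    (extZeroFun O.obj U).map
        (MonoidalCategory.whiskerRight (C := PresheafOfModules.{u} (((Over.forget U).op ⋙ O.obj) ⋙
          forget₂ CommRingCat.{u} RingCat.{u})) t ((res O.obj U).obj N)) ≫ projMap P' N =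
      projMap P N ≫ MonoidalCategory.whiskerRight (C := PM O.obj) ((extZeroFun O.obj U).map t) N := by
  refine extZeroObj_hom_ext fun W g x => ?_
  refine ((congrArg ((projMap P' N).app W) (mapAux_incl _ W g x)).trans (descHom_incl _ W g _)).trans ?_
  refine Eq.trans ?_ (congrArg ((MonoidalCategory.whiskerRight (C := PM O.obj)
    ((extZeroFun O.obj U).map t) N).app W) (descHom_incl _ W g x)).symm
  induction x using TensorProduct.induction_on with
  | zero => simp
  | tmul p n =>
    exact congrArg (fun z => z ⊗ₜ[(O.obj.obj W : Type u)] n) (mapAux_incl t W g p).symm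
  | add a b ha hb => simp only [map_add, ha, hb]

/-- the projection formula, naturally in the module on the slice -/
noncomputable def projectionIso (N : ModSite.Mod O) :
    (ModSite.tensorBi (O.over U)).flip.obj ((ModSite.restr O U).obj N) ⋙ ModSite.extZero O U ≅
      ModSite.extZero O U ⋙ (ModSite.tensorBi O).flip.obj N :=
  let N₀ : PM O.obj := (toPM O).obj N
  let tR : PMOver O.obj U ⥤ PMOver O.obj U :=
    MonoidalCategory.tensorRight (C := PresheafOfModules.{u} (((Over.forget U).op ⋙ O.obj) ⋙
      forget₂ CommRingCat.{u} RingCat.{u})) ((res O.obj U).obj N₀)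
  let e₁ : (ModSite.tensorBi (O.over U)).flip.obj ((ModSite.restr O U).obj N) ⋙ ModSite.extZero O U ≅
      toPMOver O U ⋙ tR ⋙ extZeroFun O.obj U ⋙ Sh O :=
    NatIso.ofComponents (fun P => (shExtZeroIso O U).app (tR.obj ((toPMOver O U).obj P)))
      fun {P P'} t => (shExtZeroIso O U).hom.naturality (tR.map ((toPMOver O U).map t))
  let e₂ : tR ⋙ extZeroFun O.obj U ⋙ Sh O ≅
      extZeroFun O.obj U ⋙ MonoidalCategory.tensorRight (C := PM O.obj) N₀ ⋙ Sh O :=
    NatIso.ofComponents (fun P => @asIso _ _ _ _ _ (isIso_sh_projMap O U P N₀))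
      fun {P P'} t => ((Sh O).map_comp _ _).symm.trans
        ((congrArg (Sh O).map (projMap_naturality O U t N₀)).trans ((Sh O).map_comp _ _))
  let e₃ : MonoidalCategory.tensorRight (C := PM O.obj) N₀ ⋙ Sh O ≅
      Sh O ⋙ (ModSite.tensorBi O).flip.obj N :=
    NatIso.ofComponents
      (fun X => @asIso _ _ _ _ ((Sh O).map (MonoidalCategory.whiskerRight (C := PM O.obj)
        (ModSiteTensor.η O X) N₀))
        (@ModSiteTensor.isIso_sheafify_map_whiskerRight _ _ _ _ _ _ (ModSiteTensor.η O X)
          (ModSiteTensor.unit_locallyInjective O X) (ModSiteTensor.unit_locallySurjective O X) N₀))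
      fun {X Y} b => by
        refine ((Sh O).map_comp _ _).symm.trans (Eq.trans ?_ ((Sh O).map_comp _ _))
        refine congrArg _ (((MonoidalCategory.comp_whiskerRight (C := PM O.obj) _ _ _).symm.trans ?_).trans
          (MonoidalCategory.comp_whiskerRight (C := PM O.obj) _ _ _))
        exact congrArg (fun z => MonoidalCategory.whiskerRight (C := PM O.obj) z N₀)
          ((PresheafOfModules.sheafificationAdjunction.{u} (R := ModSite.ringSh O)
            (𝟙 (ModSite.ringSh O).obj)).unit.naturality b)
  e₁ ≪≫ Functor.isoWhiskerLeft (toPMOver O U) e₂ ≪≫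
    Functor.isoWhiskerLeft (toPMOver O U ⋙ extZeroFun O.obj U) e₃ ≪≫
      Functor.isoWhiskerRight (extZeroIso O U).symm ((ModSite.tensorBi O).flip.obj N)

theorem preservesFiniteLimits_extZero : PreservesFiniteLimits (ModSite.extZero O U) := by
  haveI : (extZeroFun O.obj U).PreservesMonomorphisms :=
    ⟨fun {P Q} t ht => by
      have ht' : ∀ V, Function.Injective (t.app V) := fun V => PresheafOfModules.injective_of_mono t V
      exact PresheafOfModules.mono_of_injective fun W => extZeroMap_injective t ht' W⟩
  haveI : PreservesFiniteLimits (Sh O) :=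
    inferInstanceAs (PreservesFiniteLimits (PresheafOfModules.sheafification.{u} (𝟙 (ModSite.ringSh O).obj)))
  haveI : PreservesFiniteLimits (toPMOver O U) :=
    inferInstanceAs (PreservesFiniteLimits (SheafOfModules.forget (ModSite.ringSh (O.over U))))
  have hmono : ∀ {P Q : ModSite.Mod (O.over U)} (f : P ⟶ Q), Mono f → Mono ((ModSite.extZero O U).map f) := by
    intro P Q f hf
    haveI : Mono ((toPMOver O U).map f) := (toPMOver O U).map_mono f
    haveI : Mono ((extZeroFun O.obj U).map ((toPMOver O U).map f)) := (extZeroFun O.obj U).map_mono _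
    haveI : Mono ((toPMOver O U ⋙ extZeroFun O.obj U ⋙ Sh O).map f) := (Sh O).map_mono _
    rw [NatIso.naturality_1 (extZeroIso O U).symm f |>.symm]
    infer_instance
  haveI : PreservesColimitsOfSize.{u, u} (ModSite.extZero O U) :=
    (ModSite.extZeroAdj O U).leftAdjoint_preservesColimits
  haveI : PreservesColimitsOfSize.{0, 0} (ModSite.extZero O U) :=
    preservesSmallestColimits_of_preservesColimits _
  haveI : PreservesFiniteColimits (ModSite.extZero O U) := inferInstance
  haveI := preservesBinaryBiproducts_of_preservesBinaryCoproducts (ModSite.extZero O U)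
  haveI := Functor.additive_of_preservesBinaryBiproducts (ModSite.extZero O U)
  have h3 := (((ModSite.extZero O U).preservesFiniteColimits_tfae.out 3 0 rfl rfl).1
    (inferInstance : PreservesFiniteColimits (ModSite.extZero O U)))
  exact (((ModSite.extZero O U).exact_tfae.out 0 3 rfl rfl).1 fun S hS =>
    { exact := (h3 S hS).1, mono_f := hmono S.f hS.mono_f, epi_g := (h3 S hS).2 }).1

/-- `j_!` is faithful -/
theorem faithful_extZero : (ModSite.extZero O U).Faithful := by
  constructor
  intro P Q s t hst
  refine SheafOfModules.hom_ext (PresheafOfModules.hom_ext fun V => ?_)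
  ext x
  obtain ⟨V⟩ := V
  let W : Cᵒᵖ := op V.left
  let s' := (toPMOver O U).map s
  let t' := (toPMOver O U).map t
  let η := ModSiteTensor.η O (extZeroObj ((toPMOver O U).obj Q))
  have hE : (Sh O).map ((extZeroFun O.obj U).map s') = (Sh O).map ((extZeroFun O.obj U).map t') := by
    have h1 := (extZeroIso O U).hom.naturality s
    have h2 := (extZeroIso O U).hom.naturality t
    rw [hst, h2, cancel_epi] at h1
    exact h1.symm
  have hη : (extZeroFun O.obj U).map s' ≫ η = (extZeroFun O.obj U).map t' ≫ η := by
    let u := (PresheafOfModules.sheafificationAdjunction.{u} (R := ModSite.ringSh O)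
      (𝟙 (ModSite.ringSh O).obj)).unit
    exact (u.naturality _).trans ((congrArg (fun z => u.app _ ≫ (toPM O).map z) hE).trans
      (u.naturality _).symm)
  have hx := ConcreteCategory.congr_hom (congrArg (fun m => PresheafOfModules.Hom.app m W) hη)
    (incl (P := (toPMOver O U).obj P) W V.hom x)
  haveI := ModSiteTensor.unit_locallyInjective O (extZeroObj ((toPMOver O U).obj Q))
  have hcov := Presheaf.equalizerSieve_mem J ((PresheafOfModules.toPresheaf _).map η)
    (incl (P := (toPMOver O U).obj Q) W V.hom (appFib s' W V.hom x))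
    (incl (P := (toPMOver O U).obj Q) W V.hom (appFib t' W V.hom x))
    (((congrArg (η.app W) (mapAux_incl s' W V.hom x)).symm.trans hx).trans
      (congrArg (η.app W) (mapAux_incl t' W V.hom x)))
  have hsep := ((isSheaf_iff_isSheaf_of_type (J.over U) _).mp
    (((sheafCompose (J.over U) (forget AddCommGrpCat.{u})).obj ⟨_, Q.isSheaf⟩).property)
      _ (J.overEquiv_symm_mem_over V _ hcov)).isSeparatedFor
  refine hsep.ext fun Y q hq => ?_
  have hq' : transition (P := (toPMOver O U).obj Q) q.left.op
      (incl (P := (toPMOver O U).obj Q) W V.hom (appFib s' W V.hom x)) = transition q.left.op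
      (incl (P := (toPMOver O U).obj Q) W V.hom (appFib t' W V.hom x)) := hq
  rw [transition_incl q.left.op V.hom Y.hom (Over.w q), transition_incl q.left.op V.hom Y.hom (Over.w q)] at hq'
  classical
  exact DirectSum.of_injective (β := fib ((toPMOver O U).obj Q) (op Y.left)) Y.hom hq'

/-- restriction commutes with tensor products -/
theorem nonempty_restrTensorIso (M N : ModSite.Mod O) :
    Nonempty ((ModSite.restr O U).obj (((ModSite.tensorBi O).obj M).obj N) ≅
      ((ModSite.tensorBi (O.over U)).obj ((ModSite.restr O U).obj M)).obj ((ModSite.restr O U).obj N)) := by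
  let X : PM O.obj := MonoidalCategory.tensorObj (C := PM O.obj) ((toPM O).obj M) ((toPM O).obj N)
  let η' : (res O.obj U).obj X ⟶ (toPMOver O U).obj ((ModSite.restr O U).obj ((Sh O).obj X)) :=
    (res O.obj U).map (ModSiteTensor.η O X)
  haveI := ModSiteTensor.unit_locallyInjective O X
  haveI := ModSiteTensor.unit_locallySurjective O X
  haveI : IsIso ((ShOver O U).map η') :=
    @ModSiteTensor.isIso_sheafify_map _ _ _ (O.over U) _ _ η'
      (Presheaf.isLocallyInjective_whisker (J.over U) J (Over.forget U)
        ((PresheafOfModules.toPresheaf _).map (ModSiteTensor.η O X)))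
      (Presheaf.isLocallySurjective_whisker (J.over U) J (Over.forget U)
        ((PresheafOfModules.toPresheaf _).map (ModSiteTensor.η O X)))
  let c := (PresheafOfModules.sheafificationAdjunction.{u} (R := ModSite.ringSh (O.over U))
    (𝟙 (ModSite.ringSh (O.over U)).obj)).counit
  haveI : IsIso (c.app ((ModSite.restr O U).obj ((Sh O).obj X))) := inferInstance
  exact ⟨((asIso ((ShOver O U).map η')) ≪≫ asIso (c.app _)).symm⟩

end Groth.Agent.ModSiteExt
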