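import Groth.Agent.KFlat.Site
import Groth.Agent.KFlat.MapTens
import Groth.Agent.ModSiteExt.Consequences

/-!
Restriction to a slice preserves K-flatness.
-/

set_option autoImplicit false
set_option linter.unusedSectionVars false
set_option backward.isDefEq.respectTransparency false
set_option backward.isDefEq.respectTransparency.types false
universe u

namespace Groth.Agent.ModSiteExt

open CategoryTheory Limits HomologicalComplex

variable {C : Type u} [SmallCategory C] {J : GrothendieckTopology C} (O : Sheaf J CommRingCat.{u}) (U : C)

theorem rflat_restr [(ModSite.restr O U).Additive] (K : CochainComplex (ModSite.Mod O) ℤ)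
    (hK : KFlat.RFlat (ModSite.tensorBi O) K) :
    KFlat.RFlat (ModSite.tensorBi (O.over U))
      (((ModSite.restr O U).mapHomologicalComplex (ComplexShape.up ℤ)).obj K) := fun M hM => by
  have := preservesFiniteLimits_extZero O U
  have hL : PreservesColimitsOfSize.{u, u} (ModSite.extZero O U) :=
    (ModSite.extZeroAdj O U).leftAdjoint_preservesColimits
  have : PreservesColimitsOfSize.{0, 0} (ModSite.extZero O U) :=
    preservesSmallestColimits_of_preservesColimits _
  have : PreservesFiniteColimits (ModSite.extZero O U) := inferInstance
  have : (ModSite.extZero O U).Additive := (ModSite.extZeroAdj O U).left_adjoint_additive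
  have hM' : (((ModSite.extZero O U).mapHomologicalComplex (ComplexShape.up ℤ)).obj M).Acyclic :=
    fun i => (hM i).map (ModSite.extZero O U)
  have h1 := hK _ hM'
  let e := KFlat.mapTensIso (ModSite.extZero O U) (𝟭 (ModSite.Mod O)) (𝟭 (ModSite.Mod (O.over U)))
    (ModSite.restr O U) (ModSite.extZero O U) (ModSite.tensorBi (O.over U)) (ModSite.tensorBi O)
    (fun P N => ((projectionIso O U N).app P).symm)
    (fun {P P'} f N => (projectionIso O U N).inv.naturality f)
    (fun P {N N'} g => by
      have h := projectionIso_naturality_right O U P g
      exact ((((projectionIso O U N').app P).comp_inv_eq.2)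
        ((((projectionIso O U N).app P).inv_comp_eq.2 h).symm.trans (Category.assoc _ _ _).symm))) M K
  have h2 := KFlat.acyclic_of_iso e h1
  intro i
  exact exact_of_exact_map O U _ (h2 i)

end Groth.Agent.ModSiteExt
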