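import Groth.Agent.ModSiteExt.Sheaf
import Groth.Prelude.Def_ModSite2
import Mathlib.CategoryTheory.Sites.Point.Over

/-!
The stalk of an extension by zero at a point is the sum of the stalks at the points over it.
-/

set_option autoImplicit false
set_option backward.isDefEq.respectTransparency false
set_option backward.isDefEq.respectTransparency.types false
set_option linter.style.haveILetI false
set_option maxHeartbeats 1000000

universe u

open CategoryTheory Category Limits Opposite

namespace Groth.Agent.ModSiteExt

variable {C : Type u} [SmallCategory C] {R : Cᵒᵖ ⥤ CommRingCat.{u}} {U : C}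
  {J : GrothendieckTopology C} (p : GrothendieckTopology.Point.{u} J) (P : PMOver R U)

/-- the summands -/
noncomputable abbrev stalkAt (x : p.fiber.obj U) : AddCommGrpCat.{u} := (p.over x).presheafFiber.obj P.presheaf

/-- component of the map to the sum of stalks -/
noncomputable def toSum (W : C) (y : p.fiber.obj W) (g : W ⟶ U) :
    P.presheaf.obj (op (Over.mk g)) ⟶ ∐ stalkAt p P :=
  (p.over (p.fiber.map g y)).toPresheafFiber (Over.mk g) ⟨y, rfl⟩ P.presheaf ≫
    Sigma.ι (stalkAt p P) (p.fiber.map g y)

lemma toSum_eq (W : C) (y : p.fiber.obj W) (g : W ⟶ U) (x : p.fiber.obj U) (h : p.fiber.map g y = x) :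
    toSum p P W y g = (p.over x).toPresheafFiber (Over.mk g) ⟨y, h⟩ P.presheaf ≫ Sigma.ι (stalkAt p P) x := by
  subst h; rfl

lemma map_toSum {W W' : C} (f : W' ⟶ W) (y : p.fiber.obj W') (g : W ⟶ U) :
    P.presheaf.map (Over.homMk f : Over.mk (f ≫ g) ⟶ Over.mk g).op ≫ toSum p P W' y (f ≫ g) =
      toSum p P W (p.fiber.map f y) g := by
  have h : p.fiber.map (f ≫ g) y = p.fiber.map g (p.fiber.map f y) := by simp
  rw [toSum_eq p P W' y (f ≫ g) _ h, toSum, ← assoc]
  congr 1
  exact GrothendieckTopology.Point.toPresheafFiber_w (p.over _) (Over.homMk f : Over.mk (f ≫ g) ⟶ Over.mk g) ⟨y, h⟩ P.presheaf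

/-- the map to the sum of stalks -/
noncomputable def fiberDesc : p.presheafFiber.obj (extZeroPresheaf P) ⟶ ∐ stalkAt p P :=
  p.presheafFiberDesc (fun W y => AddCommGrpCat.ofHom (desc fun g => (toSum p P W y g).hom))
    fun {W' W} f y => by
      refine AddCommGrpCat.hom_ext (hom_ext fun g x => ?_)
      show desc (fun g => (toSum p P W' y g).hom) (transition f.op (incl (P := P) (op W) g x)) =
        desc (fun g => (toSum p P W (p.fiber.map f y) g).hom) (incl (P := P) (op W) g x)
      rw [transition_incl f.op g (f ≫ g) rfl, desc_incl, desc_incl]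
      exact ConcreteCategory.congr_hom (map_toSum p P f y g) x

/-- the summand inclusion -/
noncomputable def inclFiber (x : p.fiber.obj U) : stalkAt p P x ⟶ p.presheafFiber.obj (extZeroPresheaf P) :=
  (p.over x).presheafFiberDesc
    (fun V y => AddCommGrpCat.ofHom (inclV P (op V)) ≫ p.toPresheafFiber V.left y.1 (extZeroPresheaf P))
    fun {V' V} f y => by
      refine AddCommGrpCat.hom_ext (AddMonoidHom.ext fun z => ?_)
      have h : transition f.left.op (incl (P := P) (op V.left) V.hom z) =
          incl (P := P) (op V'.left) V'.hom (P.presheaf.map f.op z) :=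
        transition_incl (W := op V.left) (W' := op V'.left) f.left.op V.hom V'.hom (Over.w f) z
      show p.toPresheafFiber V'.left y.1 (extZeroPresheaf P) (incl (P := P) (op V'.left) V'.hom (P.presheaf.map f.op z)) = _
      rw [← h]
      exact ConcreteCategory.congr_hom (GrothendieckTopology.Point.toPresheafFiber_w p f.left y.1 (extZeroPresheaf P))
        (incl (P := P) (op V.left) V.hom z)

lemma incl_fiber (x : p.fiber.obj U) (V : Over U) (y : (p.over x).fiber.obj V) :
    (p.over x).toPresheafFiber V y P.presheaf ≫ inclFiber p P x =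
      AddCommGrpCat.ofHom (inclV P (op V)) ≫ p.toPresheafFiber V.left y.1 (extZeroPresheaf P) :=
  GrothendieckTopology.Point.toPresheafFiber_presheafFiberDesc (Φ := p.over x) (φ := _) (hφ := _) V y

lemma fiber_desc (W : C) (y : p.fiber.obj W) :
    p.toPresheafFiber W y (extZeroPresheaf P) ≫ fiberDesc p P =
      AddCommGrpCat.ofHom (desc fun g => (toSum p P W y g).hom) :=
  GrothendieckTopology.Point.toPresheafFiber_presheafFiberDesc (Φ := p) (φ := _) (hφ := _) W y

/-- stalks of the presheaf extension by zero -/
noncomputable def fiberIso : p.presheafFiber.obj (extZeroPresheaf P) ≅ ∐ stalkAt p P where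
  hom := fiberDesc p P
  inv := Sigma.desc (inclFiber p P)
  hom_inv_id := GrothendieckTopology.Point.presheafFiber_hom_ext p fun W y => by
    rw [← assoc, fiber_desc, comp_id]
    refine AddCommGrpCat.hom_ext (hom_ext fun g z => ?_)
    show Sigma.desc (inclFiber p P) (desc (fun g => (toSum p P W y g).hom) (incl (P := P) (op W) g z)) =
      p.toPresheafFiber W y (extZeroPresheaf P) (incl (P := P) (op W) g z)
    rw [desc_incl]
    refine (ConcreteCategory.congr_hom (show toSum p P W y g ≫ Sigma.desc (inclFiber p P) =
      AddCommGrpCat.ofHom (inclV P (op (Over.mk g))) ≫ p.toPresheafFiber W y (extZeroPresheaf P) from ?_) z)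
    rw [toSum, assoc, Sigma.ι_desc]
    exact incl_fiber p P _ (Over.mk g) ⟨y, rfl⟩
  inv_hom_id := Sigma.hom_ext _ _ fun x => GrothendieckTopology.Point.presheafFiber_hom_ext _ fun V y => by
    rw [Sigma.ι_desc_assoc, ← assoc, incl_fiber, assoc, fiber_desc, comp_id]
    refine AddCommGrpCat.hom_ext (AddMonoidHom.ext fun z => ?_)
    show desc (fun g => (toSum p P V.left y.1 g).hom) (incl (P := P) (op V.left) V.hom z) =
      ((p.over x).toPresheafFiber V y P.presheaf ≫ Sigma.ι (stalkAt p P) x) z
    rw [desc_incl, toSum_eq p P V.left y.1 V.hom x y.2]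
    rfl

theorem nonempty_stalk_extZero_iso (O : Sheaf J CommRingCat.{u}) (U : C) (G : ModSite.Mod (O.over U))
    (p : GrothendieckTopology.Point.{u} J) :
    Nonempty (ModSite.stalkAb p ((ModSite.extZero O U).obj G) ≅
      ∐ fun x : p.fiber.obj U => ModSite.stalkAb (p.over x) G) := by
  let M := extZeroObj ((toPMOver O U).obj G)
  let η := ModSiteTensor.η O M
  have : IsIso (p.presheafFiber.map ((PresheafOfModules.toPresheaf _).map η)) :=
    GrothendieckTopology.Point.W_isInvertedBy_presheafFiber' p _ (J.W_toSheafify M.presheaf)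
  exact ⟨(p.sheafFiber (A := AddCommGrpCat.{u})).mapIso ((SheafOfModules.toSheaf _).mapIso ((extZeroIso O U).app G)) ≪≫
    (asIso (p.presheafFiber.map ((PresheafOfModules.toPresheaf _).map η))).symm ≪≫
    fiberIso p ((toPMOver O U).obj G)⟩

end Groth.Agent.ModSiteExt
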